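import Mathlib
import Groth.Prelude.Def_GrLC2

set_option autoImplicit false
set_option linter.unusedSectionVars false
set_option linter.unusedVariables false
set_option linter.unusedSimpArgs false
set_option linter.style.haveILetI false
set_option maxHeartbeats 400000

/-!
# The zeroth Bass number as the length of a socle

For a local ring `A` and an `A`-module `N`, `bassNumLocal A N 0` is the length of the socle
`{y ∈ N | 𝔪 y = 0}`.  For a prime `p` of `R` and a family `v : I → M` of elements killed by `p`
that is "independent modulo `p`" and "spans the `p`-socle up to denominators", the Bass number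
`μ⁰(p, M)` is the cardinality of `I`.
-/

universe u

namespace Groth.Agent.Lib.Helper6.Bass0

open CategoryTheory IsLocalRing

section Local

variable (A : Type u) [CommRing A] [IsLocalRing A] (N : Type u) [AddCommGroup N] [Module A N]

/-- The socle of a module over a local ring: the elements killed by the maximal ideal. -/
def soc : Submodule A N where
  carrier := {y | ∀ a ∈ maximalIdeal A, a • y = 0}
  add_mem' := by
    intro x y hx hy a ha
    rw [smul_add, hx a ha, hy a ha, add_zero]
  zero_mem' := by
    intro a _
    exact smul_zero a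
  smul_mem' := by
    intro c y hy a ha
    rw [smul_comm, hy a ha, smul_zero]

variable {A N}

theorem mem_soc {y : N} : y ∈ soc A N ↔ ∀ a ∈ maximalIdeal A, a • y = 0 := Iff.rfl

theorem smul_one_residue (a : A) : a • (1 : ResidueField A) = residue A a := by
  rw [Algebra.smul_def, mul_one]
  rfl

variable (A N)

/-- evaluation at `1` as a linear map `Hom(k, N) → soc N`. -/
noncomputable def evOne : (ResidueField A →ₗ[A] N) →ₗ[A] soc A N where
  toFun φ := ⟨φ 1, by
    intro a ha
    rw [← map_smul, smul_one_residue, (residue_eq_zero_iff a).mpr ha, map_zero]⟩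
  map_add' φ ψ := by
    apply Subtype.ext
    rfl
  map_smul' c φ := by
    apply Subtype.ext
    rfl

theorem evOne_bijective : Function.Bijective (evOne A N) := by
  constructor
  · intro φ ψ h
    have h1 : φ 1 = ψ 1 := congrArg Subtype.val h
    apply LinearMap.ext
    intro x
    obtain ⟨a, rfl⟩ := residue_surjective x
    rw [← smul_one_residue, map_smul, map_smul, h1]
  · intro y
    have hker : maximalIdeal A ≤ LinearMap.ker (LinearMap.toSpanSingleton A N (y : N)) := by
      intro a ha
      rw [LinearMap.mem_ker, LinearMap.toSpanSingleton_apply]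
      exact y.2 a ha
    let φ : ResidueField A →ₗ[A] N :=
      Submodule.liftQ (maximalIdeal A) (LinearMap.toSpanSingleton A N (y : N)) hker
    refine ⟨φ, ?_⟩
    apply Subtype.ext
    show φ 1 = y
    have : (1 : ResidueField A) = Submodule.Quotient.mk (p := maximalIdeal A) (1 : A) := rfl
    rw [this]
    show Submodule.liftQ (maximalIdeal A) (LinearMap.toSpanSingleton A N (y : N)) hker
      (Submodule.Quotient.mk 1) = y
    rw [Submodule.liftQ_apply, LinearMap.toSpanSingleton_apply, one_smul]

/-- `Hom_A(k, N) ≃ soc N`. -/
noncomputable def homEquivSoc : (ResidueField A →ₗ[A] N) ≃ₗ[A] soc A N :=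
  LinearEquiv.ofBijective (evOne A N) (evOne_bijective A N)

theorem bassNumLocal_zero : GrLC.bassNumLocal A N 0 = Module.length A (soc A N) := by
  unfold GrLC.bassNumLocal
  exact (((Abelian.Ext.linearEquiv₀ (R := A)).trans
    (ModuleCat.homLinearEquiv (S := A))).trans (homEquivSoc A N)).length_eq

theorem length_residueField : Module.length A (ResidueField A) = 1 := by
  have : IsSimpleModule A (ResidueField A) :=
    isSimpleModule_iff_quot_maximal.mpr ⟨maximalIdeal A, inferInstance, ⟨LinearEquiv.refl _ _⟩⟩
  exact Module.length_eq_one A (ResidueField A)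

end Local

section Prime

variable {R : Type u} [CommRing R] (p : Ideal R) [hp : p.IsPrime] (M : Type u) [AddCommGroup M]
  [Module R M]

local notation "Ap" => Localization.AtPrime p
local notation "Np" => LocalizedModule p.primeCompl M

theorem smul_mk_eq_zero_of_mem {b : Ap} (hb : b ∈ maximalIdeal Ap) {x : M}
    (hx : ∀ a ∈ p, a • x = 0) (t : p.primeCompl) :
    b • (LocalizedModule.mk x t : Np) = 0 := by
  obtain ⟨r, s, rfl⟩ := IsLocalization.exists_mk'_eq p.primeCompl b
  have hr : r ∈ p := (IsLocalization.AtPrime.mk'_mem_maximal_iff Ap p r s).mp hb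
  rw [← Localization.mk_eq_mk'_apply, LocalizedModule.mk_smul_mk, hx r hr, LocalizedModule.zero_mk]

theorem exists_smul_eq_zero_of_mem_soc (hfg : p.FG) {x : M} {t : p.primeCompl}
    (hy : (LocalizedModule.mk x t : Np) ∈ soc Ap Np) :
    ∃ u : R, u ∉ p ∧ ∀ a ∈ p, a • u • x = 0 := by
  classical
  obtain ⟨s, hs⟩ := hfg
  have key : ∀ a ∈ p, ∃ u : R, u ∉ p ∧ u • a • x = 0 := by
    intro a ha
    have h := hy (algebraMap R Ap a)
      ((IsLocalization.AtPrime.to_map_mem_maximal_iff Ap p a).mpr ha)
    rw [algebraMap_smul, LocalizedModule.smul'_mk, ← LocalizedModule.zero_mk t,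
      LocalizedModule.mk_eq] at h
    obtain ⟨u, hu⟩ := h
    refine ⟨(u : R) * (t : R), p.primeCompl.mul_mem u.2 t.2, ?_⟩
    rw [mul_smul]
    simpa [Submonoid.smul_def] using hu
  have fin : ∀ s' : Finset R, (∀ a ∈ s', a ∈ p) →
      ∃ u : R, u ∉ p ∧ ∀ a ∈ s', u • a • x = 0 := by
    intro s'
    induction s' using Finset.induction_on with
    | empty =>
      intro _
      exact ⟨1, (Ideal.ne_top_iff_one p).mp hp.ne_top, by simp⟩
    | insert a0 s0 hnot ih =>
      intro hmem
      obtain ⟨u, hu, h⟩ := ih (fun a ha => hmem a (Finset.mem_insert_of_mem ha))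
      obtain ⟨u0, hu0, h0⟩ := key a0 (hmem a0 (Finset.mem_insert_self _ _))
      refine ⟨u0 * u, fun hmem' => (hp.mem_or_mem hmem').elim hu0 hu, ?_⟩
      intro a ha
      rcases Finset.mem_insert.mp ha with rfl | ha
      · rw [mul_comm, mul_smul, h0, smul_zero]
      · rw [mul_smul, h a ha, smul_zero]
  obtain ⟨u, hu, h⟩ := fin s (fun a ha => hs ▸ Ideal.subset_span ha)
  refine ⟨u, hu, ?_⟩
  intro a ha
  rw [← hs] at ha
  induction ha using Submodule.span_induction with
  | mem a ha => rw [smul_comm]; exact h a ha
  | zero => rw [zero_smul]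
  | add a b _ _ iha ihb => rw [add_smul, iha, ihb, add_zero]
  | smul c a _ iha => rw [smul_eq_mul, mul_smul, iha, smul_zero]

/-- **The zeroth Bass number counts a "basis of the socle up to denominators"**. -/
theorem bassNum_zero_eq_card (hfg : p.FG) {I : Type*} (v : I → M)
    (h1 : ∀ i, ∀ a ∈ p, a • v i = 0)
    (h2 : ∀ r : I →₀ R, Finsupp.linearCombination R v r = 0 → ∀ i, r i ∈ p)
    (h3 : ∀ x : M, (∀ a ∈ p, a • x = 0) →
      ∃ s : R, s ∉ p ∧ ∃ r : I →₀ R, s • x = Finsupp.linearCombination R v r) :
    GrLC.bassNum p M 0 = ENat.card I := by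
  classical
  unfold GrLC.bassNum
  rw [bassNumLocal_zero]
  set w : I → Np := fun i => LocalizedModule.mk (v i) 1 with hw
  set Ψ : (I →₀ Ap) →ₗ[Ap] Np := Finsupp.linearCombination Ap w with hΨ
  have hwsoc : ∀ i, w i ∈ soc Ap Np := fun i b hb => smul_mk_eq_zero_of_mem p M hb (h1 i) 1
  have hmkLC : ∀ r : I →₀ R, (LocalizedModule.mk (Finsupp.linearCombination R v r) 1 : Np) =
      ∑ i ∈ r.support, (algebraMap R Ap (r i)) • w i := by
    intro r
    rw [Finsupp.linearCombination_apply, Finsupp.sum, ← LocalizedModule.mkLinearMap_apply, map_sum]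
    apply Finset.sum_congr rfl
    intro i _
    rw [map_smul, algebraMap_smul]
    rfl
  -- the range of `Ψ` is the socle
  have hrange : LinearMap.range Ψ = soc Ap Np := by
    apply le_antisymm
    · rw [hΨ, Finsupp.range_linearCombination, Submodule.span_le]
      rintro _ ⟨i, rfl⟩
      exact hwsoc i
    · intro y hy
      induction y using LocalizedModule.induction_on with
      | h x t =>
        obtain ⟨u, hu, hux⟩ := exists_smul_eq_zero_of_mem_soc p M hfg hy
        obtain ⟨s, hs, r, hr⟩ := h3 (u • x) hux
        rw [hΨ, Finsupp.range_linearCombination]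
        have e1 : (LocalizedModule.mk x t : Np) =
            (Localization.mk 1 ((⟨s, hs⟩ : p.primeCompl) * ⟨u, hu⟩ * t) : Ap) •
              (LocalizedModule.mk (s • u • x) 1 : Np) := by
          rw [LocalizedModule.mk_smul_mk, one_smul, mul_one, LocalizedModule.mk_eq]
          refine ⟨1, ?_⟩
          simp only [Submonoid.smul_def, Submonoid.coe_mul, one_smul, ← mul_smul]
          congr 1
          ring
        rw [e1, hr, hmkLC]
        apply Submodule.smul_mem
        exact Submodule.sum_mem _
          (fun i _ => Submodule.smul_mem _ _ (Submodule.subset_span ⟨i, rfl⟩))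
  -- the kernel of `Ψ`
  let π : (I →₀ Ap) →ₗ[Ap] (I →₀ ResidueField Ap) :=
    Finsupp.mapRange.linearMap (Algebra.linearMap Ap (ResidueField Ap))
  have hπsurj : Function.Surjective π :=
    Finsupp.mapRange_surjective _ (map_zero _) residue_surjective
  have hπ : ∀ c : I →₀ Ap, π c = 0 ↔ ∀ i, c i ∈ maximalIdeal Ap := by
    intro c
    rw [Finsupp.ext_iff]
    apply forall_congr'
    intro i
    show residue Ap (c i) = 0 ↔ _
    exact residue_eq_zero_iff _
  have hker : LinearMap.ker Ψ = LinearMap.ker π := by
    ext c
    rw [LinearMap.mem_ker, LinearMap.mem_ker, hπ]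
    constructor
    · intro hc i
      obtain ⟨b, hb⟩ :=
        IsLocalization.exist_integer_multiples_of_finset p.primeCompl (c.support.image c)
      have hb' : ∀ j, ∃ r : R, algebraMap R Ap r = (b : R) • c j := by
        intro j
        by_cases hj : j ∈ c.support
        · exact hb (c j) (Finset.mem_image_of_mem _ hj)
        · exact ⟨0, by rw [Finsupp.notMem_support_iff.mp hj, smul_zero, map_zero]⟩
      choose rr hrr using hb'
      have hrr0 : ∀ j, j ∉ c.support → rr j ∈ p := by
        intro j hj
        have h0 : algebraMap R Ap (rr j) = 0 := by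
          rw [hrr, Finsupp.notMem_support_iff.mp hj, smul_zero]
        have := (IsLocalization.AtPrime.to_map_mem_maximal_iff Ap p (rr j)).mp
          (h0 ▸ Ideal.zero_mem _)
        exact this
      -- finitely supported version
      let r : I →₀ R := Finsupp.onFinset c.support (fun j => if j ∈ c.support then rr j else 0)
        (by
          intro j hj
          by_contra h
          simp [h] at hj)
      have hr : ∀ j, algebraMap R Ap (r j) = (b : R) • c j := by
        intro j
        by_cases hj : j ∈ c.support
        · simp only [r, Finsupp.onFinset_apply, if_pos hj]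
          exact hrr j
        · simp only [r, Finsupp.onFinset_apply, if_neg hj, map_zero]
          rw [Finsupp.notMem_support_iff.mp hj, smul_zero]
      have hz : (LocalizedModule.mk (Finsupp.linearCombination R v r) 1 : Np) = 0 := by
        have h1' : (LocalizedModule.mk (Finsupp.linearCombination R v r) 1 : Np) =
            (b : R) • Ψ c := by
          rw [hmkLC, hΨ, Finsupp.linearCombination_apply, Finsupp.sum, Finset.smul_sum]
          have hsub : r.support ⊆ c.support := by
            intro j hj
            by_contra hjc
            have : r j = 0 := by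
              simp only [r, Finsupp.onFinset_apply, if_neg hjc]
            exact (Finsupp.mem_support_iff.mp hj) this
          rw [Finset.sum_subset hsub]
          · apply Finset.sum_congr rfl
            intro j _
            rw [hr j, smul_assoc]
          · intro j _ hj
            rw [Finsupp.notMem_support_iff.mp hj, map_zero, zero_smul]
        rw [h1', hc, smul_zero]
      rw [← LocalizedModule.zero_mk 1, LocalizedModule.mk_eq] at hz
      obtain ⟨u, hu⟩ := hz
      have hz' : Finsupp.linearCombination R v ((u : R) • r) = 0 := by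
        rw [map_smul]
        simpa [Submonoid.smul_def] using hu
      have hmem := h2 _ hz' i
      have hri : r i ∈ p := by
        rw [Finsupp.smul_apply, smul_eq_mul] at hmem
        exact (hp.mem_or_mem hmem).resolve_left u.2
      have hbc : (b : R) • c i ∈ maximalIdeal Ap := by
        rw [← hr i]
        exact (IsLocalization.AtPrime.to_map_mem_maximal_iff Ap p _).mpr hri
      rw [Algebra.smul_def] at hbc
      refine ((Ideal.IsPrime.mem_or_mem inferInstance hbc).resolve_left ?_)
      intro hb0
      exact ((IsLocalization.AtPrime.to_map_mem_maximal_iff Ap p _).mp hb0) |> b.2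
    · intro hc
      rw [hΨ, Finsupp.linearCombination_apply, Finsupp.sum]
      apply Finset.sum_eq_zero
      intro i _
      exact hwsoc i (c i) (hc i)
  calc Module.length Ap (soc Ap Np) = Module.length Ap (LinearMap.range Ψ) := by rw [hrange]
    _ = Module.length Ap ((I →₀ Ap) ⧸ LinearMap.ker Ψ) :=
        (LinearMap.quotKerEquivRange Ψ).length_eq.symm
    _ = Module.length Ap ((I →₀ Ap) ⧸ LinearMap.ker π) :=
        (Submodule.quotEquivOfEq _ _ hker).length_eq
    _ = Module.length Ap (I →₀ ResidueField Ap) :=
        (LinearMap.quotKerEquivOfSurjective π hπsurj).length_eq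
    _ = ENat.card I := by
        rw [Module.length_finsupp, length_residueField, mul_one]

end Prime

end Groth.Agent.Lib.Helper6.Bass0
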