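import Mathlib
import Groth.Agent.Lib.Helper6.GrDim.GDb

set_option autoImplicit false
set_option linter.unusedSectionVars false
set_option linter.unusedVariables false
set_option linter.unusedSimpArgs false
set_option linter.style.haveILetI false
set_option maxHeartbeats 400000

/-!
# A *essential extension of graded modules is essential

Let `E` be a graded module, `N ≤ J` homogeneous submodules such that every nonzero homogeneous
submodule of `J` meets `N`.  Then every nonzero element of `J` has a nonzero (homogeneous) multiple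
in `N`.
-/

universe u

namespace Groth.Agent.Lib.Helper6.Bass0

open DirectSum

variable {ι : Type*} [AddCommGroup ι] [DecidableEq ι] {R : Type u} [CommRing R]
  (𝒜 : ι → AddSubgroup R) [GradedRing 𝒜] {E : Type*} [AddCommGroup E] [Module R E]
  (𝓔 : ι → AddSubgroup E) [DirectSum.Decomposition 𝓔] [SetLike.GradedSMul 𝒜 𝓔]

theorem decompose_homog_smul {a : R} {d : ι} (ha : a ∈ 𝒜 d) (x : E) (g : ι) :
    ((decompose 𝓔 (a • x)) (d + g) : E) = a • (decompose 𝓔 x g : E) := by
  classical
  induction x using DirectSum.Decomposition.inductionOn 𝓔 with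
  | zero => simp
  | @homogeneous j m =>
    have hmem : a • (m : E) ∈ 𝓔 (d + j) := by
      have := SetLike.GradedSMul.smul_mem (A := 𝒜) (B := 𝓔) ha m.2
      rwa [vadd_eq_add] at this
    by_cases hj : j = g
    · subst hj
      rw [decompose_of_mem_same 𝓔 hmem, decompose_of_mem_same 𝓔 m.2]
    · rw [decompose_of_mem_ne 𝓔 hmem (fun h => hj (add_left_cancel h)),
        decompose_of_mem_ne 𝓔 m.2 hj, smul_zero]
  | add x y hx hy =>
    rw [smul_add, decompose_add, decompose_add, DirectSum.add_apply, DirectSum.add_apply,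
      AddSubgroup.coe_add, AddSubgroup.coe_add, hx, hy, smul_add]

include 𝒜 in
theorem span_singleton_isHomogeneous {x : E} {g : ι} (hx : x ∈ 𝓔 g) :
    (Submodule.span R {x}).IsHomogeneous 𝓔 := by
  intro i m hm
  obtain ⟨c, rfl⟩ := Submodule.mem_span_singleton.mp hm
  have h := GrDim.decompose_smul_of_mem 𝒜 𝓔 hx c (i - g)
  rw [sub_add_cancel] at h
  rw [h]
  exact Submodule.smul_mem _ _ (Submodule.mem_span_singleton_self x)

theorem exists_decompose_ne_zero {x : E} (hx : x ≠ 0) : ∃ g, (decompose 𝓔 x g : E) ≠ 0 := by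
  classical
  by_contra h
  push Not at h
  apply hx
  rw [← DirectSum.sum_support_decompose 𝓔 x]
  exact Finset.sum_eq_zero (fun g _ => h g)

/-- a nonzero homogeneous element of `J` has a nonzero homogeneous multiple in `N`. -/
theorem exists_homog_smul_of_homog {J N : Submodule R E} (hN : N.IsHomogeneous 𝓔)
    (hess : ∀ Q : Submodule R E, Q.IsHomogeneous 𝓔 → Q ≤ J → Q ≠ ⊥ → Q ⊓ N ≠ ⊥)
    {z : E} {g : ι} (hz : z ∈ 𝓔 g) (hzJ : z ∈ J) (hz0 : z ≠ 0) :
    ∃ h : ι, ∃ a ∈ 𝒜 h, a • z ∈ N ∧ a • z ≠ 0 := by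
  have hQ : (Submodule.span R {z}) ⊓ N ≠ ⊥ := by
    apply hess _ (span_singleton_isHomogeneous 𝒜 𝓔 hz)
    · rw [Submodule.span_le]
      intro y hy
      rw [Set.mem_singleton_iff.mp hy]
      exact hzJ
    · intro hbot
      apply hz0
      have : z ∈ Submodule.span R {z} := Submodule.mem_span_singleton_self z
      rw [hbot] at this
      exact (Submodule.mem_bot R).mp this
  obtain ⟨y, hy, hy0⟩ := (Submodule.ne_bot_iff _).mp hQ
  obtain ⟨hyQ, hyN⟩ := Submodule.mem_inf.mp hy
  obtain ⟨c, rfl⟩ := Submodule.mem_span_singleton.mp hyQ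
  obtain ⟨i, hi⟩ := exists_decompose_ne_zero 𝓔 hy0
  have h := GrDim.decompose_smul_of_mem 𝒜 𝓔 hz c (i - g)
  rw [sub_add_cancel] at h
  refine ⟨i - g, (decompose 𝒜 c (i - g) : R), (decompose 𝒜 c (i - g)).2, ?_, ?_⟩
  · rw [← h]
    exact hN i hyN
  · rw [← h]
    exact hi

open Classical in
/-- **A *essential extension is essential.** -/
theorem exists_homog_smul_mem {J N : Submodule R E} (hJ : J.IsHomogeneous 𝓔)
    (hN : N.IsHomogeneous 𝓔)
    (hess : ∀ Q : Submodule R E, Q.IsHomogeneous 𝓔 → Q ≤ J → Q ≠ ⊥ → Q ⊓ N ≠ ⊥) :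
    ∀ (n : ℕ) (x : E), x ∈ J → x ≠ 0 → (decompose 𝓔 x).support.card ≤ n →
      ∃ d : ι, ∃ b ∈ 𝒜 d, b • x ∈ N ∧ b • x ≠ 0 := by
  classical
  intro n
  induction n with
  | zero =>
    intro x _ hx0 hcard
    exfalso
    obtain ⟨g, hg⟩ := exists_decompose_ne_zero 𝓔 hx0
    have hmem : g ∈ (decompose 𝓔 x).support := by
      rw [DFinsupp.mem_support_iff]
      intro h0
      exact hg (by rw [h0]; rfl)
    have : (decompose 𝓔 x).support = ∅ := Finset.card_eq_zero.mp (Nat.le_zero.mp hcard)
    rw [this] at hmem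
    exact absurd hmem (Finset.notMem_empty g)
  | succ n ih =>
    intro x hxJ hx0 hcard
    obtain ⟨g, hg⟩ := exists_decompose_ne_zero 𝓔 hx0
    have hgsupp : g ∈ (decompose 𝓔 x).support := by
      rw [DFinsupp.mem_support_iff]
      intro h0
      exact hg (by rw [h0]; rfl)
    set xg : E := (decompose 𝓔 x g : E) with hxg
    have hxgJ : xg ∈ J := hJ g hxJ
    obtain ⟨h, a, ha, haN, ha0⟩ :=
      exists_homog_smul_of_homog 𝒜 𝓔 hN hess (decompose 𝓔 x g).2 hxgJ hg
    by_cases hy : a • (x - xg) = 0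
    · refine ⟨h, a, ha, ?_, ?_⟩
      · rw [smul_sub, sub_eq_zero] at hy
        rw [hy]
        exact haN
      · rw [smul_sub, sub_eq_zero] at hy
        rw [hy]
        exact ha0
    · -- apply the induction hypothesis to `y = a • (x - xg)`
      have hyJ : a • (x - xg) ∈ J := J.smul_mem a (J.sub_mem hxJ hxgJ)
      have hsupp : (decompose 𝓔 (a • (x - xg))).support ⊆
          ((decompose 𝓔 x).support.erase g).image (fun g' => h + g') := by
        intro k hk
        rw [DFinsupp.mem_support_iff] at hk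
        rw [Finset.mem_image]
        refine ⟨k - h, ?_, by abel⟩
        have hk' : ((decompose 𝓔 (a • (x - xg))) (h + (k - h)) : E) ≠ 0 := by
          rw [add_sub_cancel]
          intro h0
          exact hk (Subtype.ext h0)
        rw [decompose_homog_smul 𝒜 𝓔 ha] at hk'
        have hne : ((decompose 𝓔 (x - xg)) (k - h) : E) ≠ 0 := by
          intro h0
          exact hk' (by rw [h0, smul_zero])
        rw [decompose_sub, DirectSum.sub_apply, AddSubgroup.coe_sub] at hne
        rw [Finset.mem_erase, DFinsupp.mem_support_iff]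
        have hxgmem : xg ∈ 𝓔 g := (decompose 𝓔 x g).2
        constructor
        · intro hkg
          apply hne
          rw [hkg, decompose_of_mem_same 𝓔 hxgmem, sub_self]
        · intro h0
          apply hne
          by_cases hkg : k - h = g
          · rw [hkg, decompose_of_mem_same 𝓔 hxgmem, sub_self]
          · rw [h0, decompose_of_mem_ne 𝓔 hxgmem (fun e => hkg e.symm)]
            simp
      have hcard' : (decompose 𝓔 (a • (x - xg))).support.card ≤ n := by
        calc (decompose 𝓔 (a • (x - xg))).support.card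
            ≤ (((decompose 𝓔 x).support.erase g).image (fun g' => h + g')).card :=
              Finset.card_le_card hsupp
          _ ≤ ((decompose 𝓔 x).support.erase g).card := Finset.card_image_le
          _ = (decompose 𝓔 x).support.card - 1 := Finset.card_erase_of_mem hgsupp
          _ ≤ n := by omega
      obtain ⟨d', b', hb', hb'N, hb'0⟩ := ih _ hyJ hy hcard'
      refine ⟨d' + h, b' * a, ?_, ?_, ?_⟩
      · exact SetLike.GradedMul.mul_mem hb' ha
      · have : (b' * a) • x = b' • (a • (x - xg)) + b' • (a • xg) := by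
          rw [← smul_add, ← smul_add, sub_add_cancel, mul_smul]
        rw [this]
        exact N.add_mem hb'N (N.smul_mem b' haN)
      · intro hbx
        apply hb'0
        have hbxg : (b' * a) • xg = 0 := by
          have hdeg : b' * a ∈ 𝒜 (d' + h) := SetLike.GradedMul.mul_mem hb' ha
          rw [hxg, ← decompose_homog_smul 𝒜 𝓔 hdeg, hbx, decompose_zero]
          rfl
        rw [← mul_smul, smul_sub, hbx, hbxg, sub_zero]

include 𝒜 in
theorem exists_smul_mem_of_starEss {J N : Submodule R E} (hJ : J.IsHomogeneous 𝓔)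
    (hN : N.IsHomogeneous 𝓔)
    (hess : ∀ Q : Submodule R E, Q.IsHomogeneous 𝓔 → Q ≤ J → Q ≠ ⊥ → Q ⊓ N ≠ ⊥)
    {x : E} (hx : x ∈ J) (hx0 : x ≠ 0) : ∃ b : R, b • x ∈ N ∧ b • x ≠ 0 := by
  obtain ⟨d, b, _, h1, h2⟩ := exists_homog_smul_mem 𝒜 𝓔 hJ hN hess _ x hx hx0 le_rfl
  exact ⟨b, h1, h2⟩

end Groth.Agent.Lib.Helper6.Bass0
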