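import Mathlib
import Groth.Prelude.Def_GrLC
import Groth.Agent.Lib.Helper9.GrLC.Hom

set_option autoImplicit false
set_option linter.unusedSectionVars false
set_option linter.unusedVariables false
set_option linter.unusedSimpArgs false
set_option linter.style.haveILetI false
set_option maxHeartbeats 400000

/-!
# `Ext^i_R(R/𝔞, I) = 0` for a *injective module `I` and a homogeneous ideal `𝔞` (`i ≥ 1`)
-/

universe u

namespace Groth.Agent.Lib.Helper6.Bass0

open CategoryTheory Abelian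

section Van

variable (R : Type u) [CommRing R] (I : Type u) [AddCommGroup I] [Module R I]

/-- `Ext^i_R(X, I) = 0`. -/
def ExtVan (i : ℕ) (X : Type u) [AddCommGroup X] [Module R X] : Prop :=
  Subsingleton (Ext (ModuleCat.of R X) (ModuleCat.of R I) i)

variable {R I}
variable {X₁ X₂ X₃ : Type u} [AddCommGroup X₁] [Module R X₁] [AddCommGroup X₂] [Module R X₂]
  [AddCommGroup X₃] [Module R X₃]

theorem extVan_iff {i : ℕ} {X : Type u} [AddCommGroup X] [Module R X] :
    ExtVan R I i X ↔ ∀ z : Ext (ModuleCat.of R X) (ModuleCat.of R I) i, z = 0 :=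
  ⟨fun h z => h.elim _ _, fun h => ⟨fun a b => by rw [h a, h b]⟩⟩

theorem ExtVan.of_equiv {i : ℕ} (e : X₁ ≃ₗ[R] X₂) (h : ExtVan R I i X₁) : ExtVan R I i X₂ := by
  rw [extVan_iff] at h ⊢
  intro z
  have h1 := h ((Ext.mk₀ e.toModuleIso.hom).comp z (zero_add i))
  have h2 : z = (Ext.mk₀ e.toModuleIso.inv).comp
      ((Ext.mk₀ e.toModuleIso.hom).comp z (zero_add i)) (zero_add i) := by
    rw [Ext.mk₀_comp_mk₀_assoc, Iso.inv_hom_id, Ext.mk₀_id_comp]
  rw [h2, h1, Ext.comp_zero]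

theorem ExtVan.of_subsingleton (i : ℕ) (X : Type u) [AddCommGroup X] [Module R X]
    [Subsingleton X] : ExtVan R I i X := by
  rw [extVan_iff]
  intro z
  have hz : Limits.IsZero (ModuleCat.of R X) := ModuleCat.isZero_of_subsingleton _
  have : z = (Ext.mk₀ (𝟙 (ModuleCat.of R X))).comp z (zero_add i) := by
    rw [Ext.mk₀_id_comp]
  rw [this, hz.eq_of_src (𝟙 _) 0, Ext.mk₀_zero, Ext.zero_comp]

theorem ExtVan.of_projective (i : ℕ) (X : Type u) [AddCommGroup X] [Module R X]
    [Module.Projective R X] : ExtVan R I (i + 1) X := by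
  haveI : Projective (ModuleCat.of R X) :=
    (IsProjective.iff_projective (R := R) (P := X)).mp inferInstance
  exact Ext.subsingleton_of_projective _ _ i

section SES

variable (f : X₁ →ₗ[R] X₂) (g : X₂ →ₗ[R] X₃) (hf : Function.Injective f)
  (hg : Function.Surjective g) (hex : Function.Exact f g)

include hf hg hex

theorem ExtVan.middle {i : ℕ} (h1 : ExtVan R I i X₁) (h3 : ExtVan R I i X₃) : ExtVan R I i X₂ := by
  have eq0 : g.comp f = 0 := LinearMap.ext fun x => hex.apply_apply_eq_zero x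
  let S := ModuleCat.shortComplexOfCompEqZero f g eq0
  have hS : S.ShortExact := ModuleCat.shortComplex_shortExact S hex hf hg
  rw [extVan_iff] at h1 h3 ⊢
  intro z
  have hz : (Ext.mk₀ S.f).comp (show Ext S.X₂ (ModuleCat.of R I) i from z) (zero_add i) = 0 :=
    h1 _
  obtain ⟨x₃, hx₃⟩ := Ext.contravariant_sequence_exact₂ hS (ModuleCat.of R I) _ hz
  have : x₃ = 0 := h3 x₃
  rw [this, Ext.comp_zero] at hx₃
  exact hx₃.symm

theorem ExtVan.right_succ {i : ℕ} (h1 : ExtVan R I i X₁) (h2 : ExtVan R I (i + 1) X₂) :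
    ExtVan R I (i + 1) X₃ := by
  have eq0 : g.comp f = 0 := LinearMap.ext fun x => hex.apply_apply_eq_zero x
  let S := ModuleCat.shortComplexOfCompEqZero f g eq0
  have hS : S.ShortExact := ModuleCat.shortComplex_shortExact S hex hf hg
  rw [extVan_iff] at h1 h2 ⊢
  intro z
  have hz : (Ext.mk₀ S.g).comp (show Ext S.X₃ (ModuleCat.of R I) (i + 1) from z)
      (zero_add (i + 1)) = 0 := h2 _
  obtain ⟨x₁, hx₁⟩ := Ext.contravariant_sequence_exact₃ hS (ModuleCat.of R I) _ hz
    (add_comm 1 i)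
  have : x₁ = 0 := h1 x₁
  rw [this, Ext.comp_zero] at hx₁
  exact hx₁.symm

theorem ExtVan.right_one (h2 : ExtVan R I 1 X₂)
    (hext : ∀ φ : X₁ →ₗ[R] I, ∃ ψ : X₂ →ₗ[R] I, ψ ∘ₗ f = φ) : ExtVan R I 1 X₃ := by
  have eq0 : g.comp f = 0 := LinearMap.ext fun x => hex.apply_apply_eq_zero x
  let S := ModuleCat.shortComplexOfCompEqZero f g eq0
  have hS : S.ShortExact := ModuleCat.shortComplex_shortExact S hex hf hg
  rw [extVan_iff] at h2 ⊢
  intro z
  have hz : (Ext.mk₀ S.g).comp (show Ext S.X₃ (ModuleCat.of R I) 1 from z)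
      (zero_add 1) = 0 := h2 _
  obtain ⟨x₁, hx₁⟩ := Ext.contravariant_sequence_exact₃ hS (ModuleCat.of R I) _ hz
    (add_zero 1)
  obtain ⟨φ, rfl⟩ := Ext.addEquiv₀.symm.surjective x₁
  obtain ⟨ψ, hψ⟩ := hext φ.hom
  have hφ : φ = S.f ≫ ModuleCat.ofHom ψ := by
    apply ModuleCat.hom_ext
    exact hψ.symm
  have : z = hS.extClass.comp (Ext.mk₀ φ) (add_zero 1) := hx₁.symm
  rw [this, hφ, ← Ext.mk₀_comp_mk₀, ← Ext.comp_assoc_of_second_deg_zero, hS.extClass_comp,
    Ext.zero_comp]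

end SES

end Van

end Groth.Agent.Lib.Helper6.Bass0
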