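import Mathlib
import Groth.Prelude.Def_GrLC
import Groth.Agent.Lib.Helper9.GrLC.Hom
import Groth.Agent.Lib.Helper6.GrDim.GDb
import Groth.Agent.Lib.Helper6.Bass0.BZd

set_option autoImplicit false
set_option linter.unusedSectionVars false
set_option linter.unusedVariables false
set_option linter.unusedSimpArgs false
set_option linter.style.haveILetI false
set_option maxHeartbeats 400000

/-!
# `Ext^i_R(R/𝔞, I) = 0` for a *injective module `I` and a homogeneous ideal `𝔞` (`i ≥ 1`): graded part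
-/

universe u

namespace Groth.Agent.Lib.Helper6.Bass0

open CategoryTheory Abelian DirectSum Groth.Agent.Helper9.GrLCLib

variable {ι : Type} [AddCommGroup ι] [DecidableEq ι] {R : Type u} [CommRing R]
  [IsNoetherianRing R]
  (𝒜 : ι → AddSubgroup R) [GradedRing 𝒜] {I : Type u} [AddCommGroup I] [Module R I]
  (ℐ : ι → AddSubgroup I) [DirectSum.Decomposition ℐ] [SetLike.GradedSMul 𝒜 ℐ]

/-- every linear map from a homogeneous ideal into a *injective module extends to the ring -/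
theorem exists_extension_ideal (hI : GrLC.IsStarInj 𝒜 ℐ) (𝔞 : Ideal R)
    (h𝔞 : 𝔞.IsHomogeneous 𝒜) (φ : 𝔞 →ₗ[R] I) : ∃ ψ : R →ₗ[R] I, ψ ∘ₗ 𝔞.subtype = φ := by
  haveI : Module.Finite R (subGMod (GrLC.GMod.of 𝒜 R 𝒜) 𝔞 h𝔞).carrier := by
    show Module.Finite R 𝔞
    infer_instance
  exact exists_extension 𝒜 ℐ hI (subGMod (GrLC.GMod.of 𝒜 R 𝒜) 𝔞 h𝔞) (GrLC.GMod.of 𝒜 R 𝒜)
    (subMap (GrLC.GMod.of 𝒜 R 𝒜) 𝔞 h𝔞) (isGrHom_subMap (GrLC.GMod.of 𝒜 R 𝒜) 𝔞 h𝔞)
    (subMap_injective (GrLC.GMod.of 𝒜 R 𝒜) 𝔞 h𝔞) φ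

/-- from cyclic modules to ideals -/
theorem extVan_ideal_of_quotient {i : ℕ}
    (hA : ∀ 𝔞 : Ideal R, 𝔞.IsHomogeneous 𝒜 → ExtVan R I i (R ⧸ 𝔞)) :
    ∀ 𝔞 : Ideal R, 𝔞.IsHomogeneous 𝒜 → ExtVan R I i 𝔞 := by
  classical
  -- induction on a finite set of homogeneous generators
  have key : ∀ T : Finset R, (∀ t ∈ T, SetLike.IsHomogeneousElem 𝒜 t) →
      ∀ 𝔞 : Ideal R, 𝔞 = Ideal.span (T : Set R) → ExtVan R I i 𝔞 := by
    intro T
    induction T using Finset.induction_on with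
    | empty =>
      intro _ 𝔞 h𝔞
      haveI : Subsingleton 𝔞 := by
        rw [h𝔞, Finset.coe_empty, Ideal.span_empty]
        infer_instance
      exact ExtVan.of_subsingleton i 𝔞
    | insert x T hxT ih =>
      intro hT 𝔞 h𝔞
      set 𝔞' : Ideal R := Ideal.span (T : Set R) with h𝔞'
      have hT' : ∀ t ∈ T, SetLike.IsHomogeneousElem 𝒜 t :=
        fun t ht => hT t (Finset.mem_insert_of_mem ht)
      have h𝔞'hom : 𝔞'.IsHomogeneous 𝒜 := Ideal.homogeneous_span 𝒜 _ (fun t ht => hT' t ht)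
      obtain ⟨d, hxd⟩ := hT x (Finset.mem_insert_self x T)
      have hle : 𝔞' ≤ 𝔞 := by
        rw [h𝔞, h𝔞']
        exact Ideal.span_mono (by simp)
      have hx : x ∈ 𝔞 := by
        rw [h𝔞]
        exact Ideal.subset_span (by simp)
      set W : Submodule R 𝔞 := Submodule.comap 𝔞.subtype 𝔞' with hW
      -- the cyclic quotient
      let ρ : R →ₗ[R] (𝔞 ⧸ W) := W.mkQ ∘ₗ LinearMap.toSpanSingleton R 𝔞 ⟨x, hx⟩
      have hρ : ∀ r : R, ρ r = 0 ↔ r * x ∈ 𝔞' := by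
        intro r
        show W.mkQ (r • (⟨x, hx⟩ : 𝔞)) = 0 ↔ _
        rw [Submodule.mkQ_apply, Submodule.Quotient.mk_eq_zero, hW, Submodule.mem_comap]
        rfl
      have hρsurj : Function.Surjective ρ := by
        intro y
        obtain ⟨⟨a, ha⟩, rfl⟩ := Submodule.Quotient.mk_surjective W y
        have ha' : a ∈ Submodule.span R (insert x (T : Set R)) := by
          have := ha
          rw [h𝔞, Finset.coe_insert] at this
          exact this
        obtain ⟨r, z, hz, rfl⟩ := Submodule.mem_span_insert.mp ha'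
        refine ⟨r, ?_⟩
        show W.mkQ (r • (⟨x, hx⟩ : 𝔞)) = _
        rw [Submodule.mkQ_apply, Submodule.Quotient.eq, hW, Submodule.mem_comap]
        show r • x - (r • x + z) ∈ 𝔞'
        rw [sub_add_cancel_left]
        exact 𝔞'.neg_mem hz
      have hkerhom : (LinearMap.ker ρ).IsHomogeneous 𝒜 := by
        intro g r hr
        rw [LinearMap.mem_ker, hρ] at hr ⊢
        have h := GrDim.decompose_smul_of_mem 𝒜 𝒜 hxd r g
        rw [smul_eq_mul, smul_eq_mul] at h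
        rw [← h]
        exact h𝔞'hom (g + d) hr
      have h3 : ExtVan R I i (𝔞 ⧸ W) :=
        (hA (LinearMap.ker ρ) hkerhom).of_equiv (LinearMap.quotKerEquivOfSurjective ρ hρsurj)
      have h1 : ExtVan R I i 𝔞' := ih hT' 𝔞' rfl
      refine ExtVan.middle (Submodule.inclusion hle) W.mkQ (Submodule.inclusion_injective hle)
        (Submodule.mkQ_surjective W) ?_ h1 h3
      rw [LinearMap.exact_iff, Submodule.ker_mkQ, Submodule.range_inclusion]
  intro 𝔞 h𝔞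
  obtain ⟨T, hT, hspan⟩ := exists_homog_generators (R := R) 𝒜 𝔞 h𝔞
    (IsNoetherian.noetherian 𝔞)
  exact key T hT 𝔞 hspan.symm

/-- **`Ext^{i+1}_R(R/𝔞, I) = 0 = Ext^{i+1}_R(𝔞, I)`** for a *injective `I` and homogeneous `𝔞`. -/
theorem extVan_of_isStarInj (hI : GrLC.IsStarInj 𝒜 ℐ) (i : ℕ) :
    (∀ 𝔞 : Ideal R, 𝔞.IsHomogeneous 𝒜 → ExtVan R I (i + 1) (R ⧸ 𝔞)) ∧
      (∀ 𝔞 : Ideal R, 𝔞.IsHomogeneous 𝒜 → ExtVan R I (i + 1) 𝔞) := by
  induction i with
  | zero =>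
    have hA : ∀ 𝔞 : Ideal R, 𝔞.IsHomogeneous 𝒜 → ExtVan R I (0 + 1) (R ⧸ 𝔞) := by
      intro 𝔞 h𝔞
      exact ExtVan.right_one 𝔞.subtype (Submodule.mkQ 𝔞) (Submodule.injective_subtype 𝔞)
        (Submodule.mkQ_surjective 𝔞) (LinearMap.exact_subtype_mkQ 𝔞)
        (ExtVan.of_projective 0 R) (exists_extension_ideal 𝒜 ℐ hI 𝔞 h𝔞)
    exact ⟨hA, extVan_ideal_of_quotient 𝒜 hA⟩
  | succ i ih =>
    have hA : ∀ 𝔞 : Ideal R, 𝔞.IsHomogeneous 𝒜 → ExtVan R I (i + 1 + 1) (R ⧸ 𝔞) := by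
      intro 𝔞 h𝔞
      exact ExtVan.right_succ 𝔞.subtype (Submodule.mkQ 𝔞) (Submodule.injective_subtype 𝔞)
        (Submodule.mkQ_surjective 𝔞) (LinearMap.exact_subtype_mkQ 𝔞)
        (ih.2 𝔞 h𝔞) (ExtVan.of_projective (i + 1) R)
    exact ⟨hA, extVan_ideal_of_quotient 𝒜 hA⟩

end Groth.Agent.Lib.Helper6.Bass0
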