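import Mathlib
import Groth.Prelude.Def_GrLC2
import Groth.Agent.Lib.Helper8.ExtLoc4
import Groth.Agent.Lib.Helper6.Bass0.BZa
import Groth.Agent.Lib.Helper6.Bass0.BZd

set_option autoImplicit false
set_option linter.unusedSectionVars false
set_option linter.unusedVariables false
set_option linter.unusedSimpArgs false
set_option linter.style.haveILetI false
set_option maxHeartbeats 400000

/-!
# Dimension shifting for Bass numbers along an "essential" short exact sequence
-/

universe u

namespace Groth.Agent.Lib.Helper6.Bass0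

open CategoryTheory Abelian IsLocalRing Groth.Agent.Helper8.ExtLoc

variable {R : Type u} [CommRing R] [IsNoetherianRing R] (p : Ideal R) [hp : p.IsPrime]

local notation "Ap" => Localization.AtPrime p

/-- `Ext^i_{R_p}(k(p), N_p)` -/
abbrev ExtK (N : Type u) [AddCommGroup N] [Module R N] (i : ℕ) :=
  Ext (ModuleCat.of Ap (ResidueField Ap))
    (ModuleCat.of Ap (LocalizedModule p.primeCompl N)) i

theorem bassNum_eq_length (N : Type u) [AddCommGroup N] [Module R N] (i : ℕ) :
    GrLC.bassNum p N i = Module.length Ap (ExtK p N i) := rfl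

/-- vanishing of `Ext_R(R/p, N)` localizes. -/
theorem extK_subsingleton_of_extVan (N : Type u) [AddCommGroup N] [Module R N] (i : ℕ)
    (h : ExtVan R N i (R ⧸ p)) : Subsingleton (ExtK p N i) := by
  have h1 : ExtVan Ap (LocalizedModule p.primeCompl N) i
      (LocalizedModule p.primeCompl (R ⧸ p)) :=
    subsingleton_ext_loc_of_subsingleton p.primeCompl i (R ⧸ p) N h
  obtain ⟨e⟩ := nonempty_residue_equiv_localizedModule_quotient p
  exact h1.of_equiv e.symm

section Shift

variable {V₁ V₂ V₃ : Type u} [AddCommGroup V₁] [Module R V₁] [AddCommGroup V₂] [Module R V₂]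
  [AddCommGroup V₃] [Module R V₃]
  (f : V₁ →ₗ[R] V₂) (g : V₂ →ₗ[R] V₃)

include hp in
/-- the socle of `(V₂)_p` is killed by `g_p` when `V₂` is essential over `ker g`. -/
theorem soc_le_ker (hex : Function.Exact f g)
    (hess : ∀ x : V₂, x ≠ 0 → ∃ b : R, b • x ∈ LinearMap.range f ∧ b • x ≠ 0)
    (y : LocalizedModule p.primeCompl V₂)
    (hy : y ∈ soc Ap (LocalizedModule p.primeCompl V₂)) :
    locLin p.primeCompl g y = 0 := by
  induction y using LocalizedModule.induction_on with
  | h x t =>
    obtain ⟨u, hu, hux⟩ := exists_smul_eq_zero_of_mem_soc p V₂ (IsNoetherian.noetherian p) hy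
    rw [locLin_mk]
    by_cases hx0 : u • x = 0
    · rw [← LocalizedModule.zero_mk t, LocalizedModule.mk_eq]
      refine ⟨⟨u, hu⟩, ?_⟩
      simp only [Submonoid.smul_def, smul_zero]
      rw [smul_comm, ← map_smul, hx0, map_zero, smul_zero]
    · obtain ⟨b, hb, hb0⟩ := hess (u • x) hx0
      have hbp : b ∉ p := fun hbp => hb0 (hux b hbp)
      have hg0 : g (b • u • x) = 0 := by
        obtain ⟨v, hv⟩ := hb
        rw [← hv]
        exact hex.apply_apply_eq_zero v
      rw [← LocalizedModule.zero_mk t, LocalizedModule.mk_eq]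
      refine ⟨⟨b * u, fun h => (hp.mem_or_mem h).elim hbp hu⟩, ?_⟩
      simp only [Submonoid.smul_def, smul_zero]
      rw [smul_comm, ← map_smul, mul_smul, hg0, smul_zero]

/-- **Dimension shifting**: `μ^{i+1}(p, V₁) = μ^i(p, V₃)` when `V₂` has vanishing higher
`Ext_{R_p}(k(p), -)` and is an essential extension of `V₁`. -/
theorem bassNum_succ_eq (hf : Function.Injective f) (hg : Function.Surjective g)
    (hex : Function.Exact f g) (hvan : ∀ i, Subsingleton (ExtK p V₂ (i + 1)))
    (hess : ∀ x : V₂, x ≠ 0 → ∃ b : R, b • x ∈ LinearMap.range f ∧ b • x ≠ 0) (i : ℕ) :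
    GrLC.bassNum p V₁ (i + 1) = GrLC.bassNum p V₃ i := by
  have eq0 : g.comp f = 0 := LinearMap.ext fun x => hex.apply_apply_eq_zero x
  let T := ModuleCat.shortComplexOfCompEqZero f g eq0
  have hT : T.ShortExact := ModuleCat.shortComplex_shortExact T hex hf hg
  have hT' : (T.map (locF p.primeCompl)).ShortExact := hT.map_of_exact (locF p.primeCompl)
  let X : ModuleCat.{u} Ap := ModuleCat.of Ap (ResidueField Ap)
  let δ : Ext X (T.map (locF p.primeCompl)).X₃ i →ₗ[Ap] Ext X (T.map (locF p.primeCompl)).X₁ (i + 1) :=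
    { toFun := fun x => x.comp hT'.extClass rfl
      map_add' := fun x y => Ext.add_comp x y _ _
      map_smul' := fun c x => Ext.smul_comp x _ _ c }
  have hzero : ∀ x₂ : Ext X (T.map (locF p.primeCompl)).X₂ i,
      x₂.comp (Ext.mk₀ (T.map (locF p.primeCompl)).g) (add_zero i) = 0 := by
    intro x₂
    cases i with
    | zero =>
      obtain ⟨φ, rfl⟩ := Ext.addEquiv₀.symm.surjective x₂
      show (Ext.mk₀ φ).comp (Ext.mk₀ (T.map (locF p.primeCompl)).g) (add_zero 0) = 0
      rw [Ext.mk₀_comp_mk₀]
      have : φ ≫ (T.map (locF p.primeCompl)).g = 0 := by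
        apply ModuleCat.hom_ext
        apply LinearMap.ext
        intro c
        show locLin p.primeCompl g (φ.hom c) = 0
        apply soc_le_ker p f g hex hess
        intro a ha
        have h1 : a • c = 0 := by
          rw [Algebra.smul_def]
          have : algebraMap Ap (ResidueField Ap) a = 0 := (residue_eq_zero_iff a).mpr ha
          rw [this, zero_mul]
        have h2 := φ.hom.map_smul a c
        rw [h1, map_zero] at h2
        exact h2.symm
      rw [this, Ext.mk₀_zero]
    | succ i' =>
      have : x₂ = 0 := (hvan i').elim _ _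
      rw [this, Ext.zero_comp]
  have hinj : Function.Injective δ := by
    rw [injective_iff_map_eq_zero]
    intro x₃ hx₃
    obtain ⟨x₂, hx₂⟩ := Ext.covariant_sequence_exact₃ X hT' x₃ rfl hx₃
    rw [← hx₂, hzero]
  have hsurj : Function.Surjective δ := by
    intro x₁
    have h0 : x₁.comp (Ext.mk₀ (T.map (locF p.primeCompl)).f) (add_zero (i + 1)) = 0 :=
      (hvan i).elim _ _
    exact Ext.covariant_sequence_exact₁ X hT' x₁ h0 rfl
  rw [bassNum_eq_length, bassNum_eq_length]
  exact (LinearEquiv.ofBijective δ ⟨hinj, hsurj⟩).length_eq.symm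

end Shift

end Groth.Agent.Lib.Helper6.Bass0
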